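import Groth.Agent.FPExt.Basic

/-!
# Extension of modules from quasi-compact opens; directed systems of finitely presented modules
-/

set_option autoImplicit false
set_option linter.style.haveILetI false
set_option backward.isDefEq.respectTransparency false

universe u

open CategoryTheory CategoryTheory.Limits AlgebraicGeometry TopologicalSpace Opposite

noncomputable section

namespace Groth.Agent.FPExt

open QC W7FTH

variable {X : Scheme.{u}}

theorem quasiCompact_ι [QuasiSeparatedSpace X] {U : X.Opens} (hU : IsCompact (U : Set X)) :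
    QuasiCompact U.ι := by
  haveI : CompactSpace U.toScheme := isCompact_iff_compactSpace.1 hU
  exact inferInstance

theorem image_ι_le (U : X.Opens) (A : (U : Scheme.{u}).Opens) : U.ι ''ᵁ A ≤ U := by
  rintro y ⟨z, -, rfl⟩
  exact z.2

/-- sections over the image of an open of an open subscheme as a module over its ring -/
local instance restrictModule (F : X.Modules) (U : X.Opens) (A : (U : Scheme.{u}).Opens) :
    Module Γ((U : Scheme.{u}), A) Γ(F, U.ι ''ᵁ A) :=
  inferInstanceAs (Module Γ(X, U.ι ''ᵁ A) Γ(F, U.ι ''ᵁ A))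

/-- sections of a restriction over an open -/
def restrictSecEquiv (F : X.Modules) (U : X.Opens) (A : (U : Scheme.{u}).Opens) :
    Γ(F.restrict U.ι, A) ≃ₗ[Γ((U : Scheme.{u}), A)] Γ(F, U.ι ''ᵁ A) :=
  { (F.restrictAppIso U.ι A).addCommGroupIsoToAddEquiv with
    map_smul' := fun c s => by
      have h1 := F.smul_restrictAppIso_hom_apply U.ι A c s
      rw [Scheme.Opens.ι_appIso] at h1
      exact h1 }

theorem finite_sections_restrict {F : X.Modules} [F.IsQuasicoherent] {U : X.Opens}
    (hFT : CohB1.IsFT (F.restrict U.ι)) {V : X.Opens} (hV : IsAffineOpen V) (hVU : V ≤ U) :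
    Module.Finite Γ(X, V) Γ(F, V) := by
  have hV' : U.ι ''ᵁ (U.ι ⁻¹ᵁ V) = V := by
    rw [Scheme.Hom.image_preimage_eq_opensRange_inf, Scheme.Opens.opensRange_ι]
    exact inf_eq_right.2 hVU
  have hA : IsAffineOpen (U.ι ⁻¹ᵁ V) := hV.preimage_of_isOpenImmersion U.ι (by rwa [Scheme.Opens.opensRange_ι])
  haveI : (F.restrict U.ι).IsQuasicoherent := isQCoh_restrict _ ‹_›
  haveI := finite_sections hA hFT
  have := Module.Finite.equiv (restrictSecEquiv F U (U.ι ⁻¹ᵁ V))
  have h : Module.Finite Γ(X, U.ι ''ᵁ (U.ι ⁻¹ᵁ V)) Γ(F, U.ι ''ᵁ (U.ι ⁻¹ᵁ V)) := this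
  rwa [hV'] at h

theorem finitePresentation_sections_restrict {F : X.Modules} [F.IsQuasicoherent] {U : X.Opens}
    (hFP : CohB1.IsFP (F.restrict U.ι)) {V : X.Opens} (hV : IsAffineOpen V) (hVU : V ≤ U) :
    Module.FinitePresentation Γ(X, V) Γ(F, V) := by
  have hV' : U.ι ''ᵁ (U.ι ⁻¹ᵁ V) = V := by
    rw [Scheme.Hom.image_preimage_eq_opensRange_inf, Scheme.Opens.opensRange_ι]
    exact inf_eq_right.2 hVU
  have hA : IsAffineOpen (U.ι ⁻¹ᵁ V) := hV.preimage_of_isOpenImmersion U.ι (by rwa [Scheme.Opens.opensRange_ι])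
  haveI := LocFree.finitePresentation_sections_of_isFP (isQCoh_restrict _ ‹F.IsQuasicoherent›) hFP hA
  have := Module.FinitePresentation.of_equiv (restrictSecEquiv F U (U.ι ⁻¹ᵁ V))
  have h : Module.FinitePresentation Γ(X, U.ι ''ᵁ (U.ι ⁻¹ᵁ V)) Γ(F, U.ι ''ᵁ (U.ι ⁻¹ᵁ V)) := this
  rwa [hV'] at h

/-- a module which is finite over the affine opens of a quasi-compact open is generated there by a finite type subsheaf -/
theorem exists_sub_top [CompactSpace X] [QuasiSeparatedSpace X] {K : X.Modules} [hK : K.IsQuasicoherent]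
    {U : X.Opens} (hU : IsCompact (U : Set X))
    (hfin : ∀ V : X.Opens, IsAffineOpen V → V ≤ U → Module.Finite Γ(X, V) Γ(K, V)) :
    ∃ S : FGSub K, ∀ O ≤ U, ∀ k : Γ(K, O), k ∈ S.1.obj O := by
  have hloc : LocFinGen (topSub K) U := fun x hx => by
    obtain ⟨D, hD, hxD, hDU⟩ := exists_isAffineOpen_mem_and_subset (x := x) (U := U) hx
    haveI := hfin D hD hDU
    obtain ⟨T, hT⟩ := Module.Finite.fg_top (R := Γ(X, D)) (M := Γ(K, D))
    refine ⟨D, hD, hxD, hDU, T, fun t _ => trivial, fun O hO s _ y hy hyD => ?_⟩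
    obtain ⟨f, hf, hyf⟩ := hD.exists_basicOpen_le (V := O) (⟨y, hy⟩ : O) hyD
    exact ⟨X.basicOpen f, hf, X.basicOpen_le f, hyf, mem_span_basicOpen hD f hT (res K hf s)⟩
  obtain ⟨S, hS, hSU⟩ := exists_extend_qcqs (topSub K) hloc hU
  exact ⟨⟨S, hS⟩, fun O hO k => by rw [hSU O hO]; trivial⟩

/-- a morphism which is bijective on affine opens inside `U` restricts to an isomorphism -/
theorem isIso_restrict_of_affine {M N : X.Modules} (φ : M ⟶ N) (U : X.Opens)
    (h : ∀ V : X.Opens, IsAffineOpen V → V ≤ U → Function.Bijective (φ.app V)) :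
    IsIso ((Scheme.Modules.restrictFunctor U.ι).map φ) :=
  DQPush.isIso_of_bijective_affine _ fun A hA => h _ (hA.image_of_isOpenImmersion U.ι) (image_ι_le U A)

/-- a map out of a cokernel is injective where the kernel comes from the source -/
theorem injective_desc_app {A P F : X.Modules} {V : X.Opens} (hV : IsAffineOpen V) (hA : Coh.IsQCoh A)
    (hP : Coh.IsQCoh P) (u : A ⟶ P) (π : P ⟶ F) (w : u ≫ π = 0)
    (h : ∀ p, π.app V p = 0 → ∃ a, u.app V a = p) :
    Function.Injective ((cokernel.desc u π w).app V) := by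
  refine (injective_iff_map_eq_zero _).2 fun d hd => ?_
  obtain ⟨p, rfl⟩ := app_surjective_of_epi hV hP (isQCoh_cokernel hA hP u) (cokernel.π u) d
  have hc : ∀ q, (cokernel.desc u π w).app V ((cokernel.π u).app V q) = π.app V q := fun q =>
    ConcreteCategory.congr_hom (congrArg (fun ψ => Scheme.Modules.Hom.app ψ V) (cokernel.π_desc u π w)) q
  obtain ⟨a, rfl⟩ := h p ((hc p).symm.trans hd)
  exact ConcreteCategory.congr_hom (congrArg (fun ψ => Scheme.Modules.Hom.app ψ V) (cokernel.condition u)) a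

/-- a quotient of a finitely presented module agreeing with `F` over `U` -/
theorem exists_fp_epi_iso [CompactSpace X] [QuasiSeparatedSpace X] (F : X.Modules) [hF : F.IsQuasicoherent]
    (hFT : CohB1.IsFT F) {U : X.Opens} (hU : IsCompact (U : Set X)) (hFU : CohB1.IsFP (F.restrict U.ι)) :
    ∃ (G : X.Modules) (φ : G ⟶ F), CohB1.IsFP G ∧ Epi φ ∧
      IsIso ((Scheme.Modules.restrictFunctor U.ι).map φ) := by
  obtain ⟨P, π, hPq, hP, _⟩ := exists_fp_epi F hFT
  haveI hK : (kernel π).IsQuasicoherent := isQCoh_kernel hPq hF π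
  have hfin : ∀ V : X.Opens, IsAffineOpen V → V ≤ U → Module.Finite Γ(X, V) Γ(kernel π, V) := by
    intro V hV hVU
    haveI := LocFree.finitePresentation_sections_of_isFP hPq hP hV
    haveI : Module.FinitePresentation Γ(X, V) Γ(F, V) := finitePresentation_sections_restrict hFU hV hVU
    let f : Γ(P, V) →ₗ[Γ(X, V)] Γ(F, V) := CokStage.secMap π V
    have hfs : Function.Surjective f := app_surjective_of_epi hV hPq hF π
    let g : Γ(kernel π, V) →ₗ[Γ(X, V)] Γ(P, V) := CokStage.secMap (kernel.ι π) V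
    have hg : Function.Injective g := app_injective_of_mono (kernel.ι π) V
    have hr : LinearMap.range g = LinearMap.ker f := Submodule.ext fun p => mem_range_kernel_app π V p
    haveI : Module.Finite Γ(X, V) (LinearMap.range g) :=
      Module.Finite.iff_fg.2 (hr ▸ Module.FinitePresentation.fg_ker f hfs)
    exact Module.Finite.equiv (LinearEquiv.ofInjective g hg).symm
  obtain ⟨S, hS⟩ := exists_sub_top (K := kernel π) hU hfin
  let φ := (quotMap π).app S
  haveI : Epi φ := epi_of_epi_fac (cokernel.π_desc (S.1.ι ≫ kernel.ι π) π _)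
  refine ⟨_, φ, isFP_quotSys π hPq hP S, inferInstance, isIso_restrict_of_affine φ U fun V hV hVU => ?_⟩
  have hq := isQCoh_cokernel (Sub.isCoh_toModules S.2).1 hPq (S.1.ι ≫ kernel.ι π)
  exact ⟨injective_desc_app hV (Sub.isCoh_toModules S.2).1 hPq (S.1.ι ≫ kernel.ι π) π
    (by rw [Category.assoc, kernel.condition, comp_zero]) fun p hp => by
      obtain ⟨k, hk⟩ := (mem_range_kernel_app π V p).2 hp
      obtain ⟨a, ha⟩ := (S.1.range_ι_app V k).2 (hS V hVU k)
      exact ⟨a, (congrArg ((kernel.ι π).app V) ha).trans hk⟩,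
    app_surjective_of_epi hV hq hF φ⟩

/-- extension of a quasi-coherent module with its map from a quasi-compact open -/
theorem exists_qcoh_extension_map (U : X.Opens) [QuasiCompact U.ι] (F : X.Modules) [hF : F.IsQuasicoherent]
    (G : (U : Scheme.{u}).Modules) [hG : G.IsQuasicoherent] (φ : G ⟶ F.restrict U.ι) :
    ∃ (H : X.Modules) (ψ : H ⟶ F) (e : H.restrict U.ι ≅ G), Coh.IsQCoh H ∧
      e.hom ≫ φ = (Scheme.Modules.restrictFunctor U.ι).map ψ := by
  let adj := Scheme.Modules.restrictAdjunction U.ι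
  let R := Scheme.Modules.restrictFunctor U.ι
  haveI : (F.restrict U.ι).IsQuasicoherent := isQCoh_restrict _ hF
  let a : F ⟶ (Scheme.Modules.pushforward U.ι).obj (F.restrict U.ι) := adj.unit.app F
  let b := (Scheme.Modules.pushforward U.ι).map φ
  have hJ : ∀ (M : (U : Scheme.{u}).Modules) [M.IsQuasicoherent],
      Coh.IsQCoh ((Scheme.Modules.pushforward U.ι).obj M) := fun M _ => isQCoh_pushforward U.ι
  let k := biprod.fst ≫ a - biprod.snd ≫ b
  let H := kernel k
  let ψ : H ⟶ F := kernel.ι k ≫ biprod.fst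
  let q : H ⟶ (Scheme.Modules.pushforward U.ι).obj G := kernel.ι k ≫ biprod.snd
  have hsq : IsPullback ψ q a b := by
    have w : ψ ≫ a = q ≫ b := by
      rw [← sub_eq_zero]
      simpa [ψ, q, k, Preadditive.comp_sub] using kernel.condition k
    refine ⟨⟨w⟩, ⟨PullbackCone.IsLimit.mk w (fun s => kernel.lift k (biprod.lift s.fst s.snd) ?_) ?_ ?_ ?_⟩⟩
    · simp [k, Preadditive.comp_sub, s.condition]
    · intro s; simp [ψ]
    · intro s; simp [q]
    · intro s m h1 h2
      rw [← cancel_mono (kernel.ι k), kernel.lift_ι]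
      apply biprod.hom_ext <;> simp only [biprod.lift_fst, biprod.lift_snd, Category.assoc]
      · exact h1
      · exact h2
  haveI hiso : IsIso (R.map a) := by
    haveI : IsIso (adj.counit.app (R.obj F)) := inferInstance
    exact IsIso.of_isIso_fac_right (adj.left_triangle_components F)
  haveI : IsIso (R.map q) := (hsq.map R).isIso_snd_of_isIso
  refine ⟨H, ψ, asIso (R.map q) ≪≫ asIso (adj.counit.app G),
    isQCoh_kernel (RPushQC.isQCoh_biprod hF (hJ G)) (hJ _) k, ?_⟩
  rw [Iso.trans_hom, asIso_hom, asIso_hom, Category.assoc]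
  have hn : adj.counit.app G ≫ φ = R.map b ≫ adj.counit.app (F.restrict U.ι) := (adj.counit.naturality φ).symm
  rw [hn, ← Category.assoc, ← R.map_comp, ← hsq.w, R.map_comp, Category.assoc]
  exact (congrArg (R.map ψ ≫ ·) (adj.left_triangle_components F)).trans (Category.comp_id _)

/-- a finite type subsheaf agreeing over `U` -/
theorem exists_ft_sub_iso [CompactSpace X] [QuasiSeparatedSpace X] (H : X.Modules) [hH : H.IsQuasicoherent]
    {U : X.Opens} (hU : IsCompact (U : Set X)) (hFT : CohB1.IsFT (H.restrict U.ι)) :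
    ∃ (S : X.Modules) (i : S ⟶ H), Coh.IsQCoh S ∧ CohB1.IsFT S ∧
      IsIso ((Scheme.Modules.restrictFunctor U.ι).map i) := by
  have hfin : ∀ V : X.Opens, IsAffineOpen V → V ≤ U → Module.Finite Γ(X, V) Γ(H, V) :=
    fun V hV hVU => finite_sections_restrict hFT hV hVU
  obtain ⟨S, hS⟩ := exists_sub_top hU hfin
  exact ⟨S.1.toModules, S.1.ι, (Sub.isCoh_toModules S.2).1, (Sub.isCoh_toModules S.2).2,
    isIso_restrict_of_affine _ U fun V _ hVU =>
      ⟨S.1.ι_app_injective V, fun s => (S.1.range_ι_app V s).2 (hS V hVU s)⟩⟩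

end Groth.Agent.FPExt
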