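import Groth.Agent.FPExt.Extend
import Groth.Agent.QCAlg.Colim

/-!
# Every quasi-coherent module is a filtered colimit of finitely presented ones
-/

set_option autoImplicit false
set_option linter.style.haveILetI false
set_option backward.isDefEq.respectTransparency false

universe u

open CategoryTheory CategoryTheory.Limits AlgebraicGeometry TopologicalSpace Opposite

noncomputable section

namespace Groth.Agent.FPExt

open QC W7FTH
open Groth.Agent.TopPullModel

variable {X : Scheme.{u}} [CompactSpace X] [QuasiSeparatedSpace X]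

/-- a map from a finite type module has image in a finitely generated subsheaf -/
theorem exists_range_sub {M F : X.Modules} [hM : M.IsQuasicoherent] [hF : F.IsQuasicoherent]
    (hFT : CohB1.IsFT M) (φ : M ⟶ F) : ∃ S : FGSub F, ∀ O a, φ.app O a ∈ S.1.obj O := by
  classical
  obtain ⟨t, ht⟩ := isCompact_univ.elim_finite_subcover (fun V : X.affineOpens => (V.1 : Set X))
    (fun V => V.1.2) (fun y _ => by
      obtain ⟨V, hV, hyV, -⟩ := exists_isAffineOpen_mem_and_subset (X := X) (x := y) (U := ⊤) trivial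
      exact Set.mem_iUnion.mpr ⟨⟨V, hV⟩, hyV⟩)
  have hgen : ∀ V : X.affineOpens, ∃ T : Finset Γ(M, V.1),
      Submodule.span Γ(X, V.1) (T : Set Γ(M, V.1)) = ⊤ := fun V => by
    haveI := finite_sections V.2 hFT
    exact Module.Finite.fg_top
  choose T hT using hgen
  have hsub : ∀ V : X.affineOpens, ∃ S : FGSub F, ∀ a ∈ (T V).image (φ.app V.1), a ∈ S.1.obj V.1 :=
    fun V => exists_sub_mem V.2 _
  choose Sof hSof using hsub
  obtain ⟨S, hS⟩ := Finset.exists_le (t.image Sof)
  refine ⟨S, fun O a => S.1.local' _ fun x hx => ?_⟩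
  obtain ⟨V, hV, hxV⟩ := Set.mem_iUnion₂.mp (ht (Set.mem_univ x))
  obtain ⟨f, hf, hxf⟩ := V.2.exists_basicOpen_le (V := O) (⟨x, hx⟩ : O) hxV
  refine ⟨X.basicOpen f, hf, hxf, ?_⟩
  rw [app_res]
  have h := mem_span_basicOpen V.2 f (hT V) (res M hf a)
  generalize res M hf a = y at h ⊢
  induction h using Submodule.span_induction with
  | mem y hy =>
    obtain ⟨m, hm, rfl⟩ := hy
    rw [← app_res]
    exact S.1.res_mem _ (hS _ (Finset.mem_image_of_mem _ hV) _ (hSof V _ (Finset.mem_image_of_mem _ hm)))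
  | zero => rw [map_zero]; exact Submodule.zero_mem _
  | add a b _ _ ha hb => rw [map_add]; exact Submodule.add_mem _ ha hb
  | smul c a _ ha => rw [Scheme.Modules.Hom.app_smul]; exact Submodule.smul_mem _ c ha

variable {X₀ : Scheme.{u}} (h : X ⟶ X₀) (F : X.Modules)

/-- pairs of a stage and finitely generated relations -/
structure Pair : Type u where
  S : Stage h F
  T : FGSub (kernel (coverMap h F S))

/-- the presented module of a pair -/
def Pair.obj (p : Pair h F) : X.Modules := cokernel (p.T.1.ι ≫ kernel.ι (coverMap h F p.S))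

instance : Preorder (Pair h F) where
  le p q := ∃ hS : p.S ≤ q.S,
    (p.T.1.ι ≫ kernel.ι (coverMap h F p.S) ≫ coverIncl h F hS) ≫
      cokernel.π (q.T.1.ι ≫ kernel.ι (coverMap h F q.S)) = 0
  le_refl p := ⟨le_rfl, by
    have : coverIncl h F (le_refl p.S) = 𝟙 _ := by
      rw [coverIncl, ← CategoryTheory.Functor.map_id]
      congr 1
      rw [← cancel_mono p.S.1.ι, incl_ι, Category.id_comp]
    rw [this, Category.comp_id, cokernel.condition]⟩
  le_trans p q r := fun ⟨h1, e1⟩ ⟨h2, e2⟩ => ⟨h1.trans h2, by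
    have hc : coverIncl h F (h1.trans h2) = coverIncl h F h1 ≫ coverIncl h F h2 := by
      rw [coverIncl, coverIncl, coverIncl, ← Functor.map_comp]
      congr 1
      rw [← cancel_mono r.S.1.ι, Category.assoc, incl_ι, incl_ι, incl_ι]
    rw [hc]
    have e2' : (q.T.1.ι ≫ kernel.ι (coverMap h F q.S)) ≫
        (coverIncl h F h2 ≫ cokernel.π (r.T.1.ι ≫ kernel.ι (coverMap h F r.S))) = 0 := by
      simpa only [Category.assoc] using e2
    have := congrArg (· ≫ cokernel.desc _ _ e2') e1
    simpa only [Category.assoc, cokernel.π_desc, zero_comp] using this⟩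

/-- the diagram of finitely presented modules -/
def pairSys : Pair h F ⥤ X.Modules where
  obj p := p.obj h F
  map {p q} f := cokernel.desc _ (coverIncl h F (leOfHom f).1 ≫ cokernel.π (q.T.1.ι ≫ kernel.ι (coverMap h F q.S))) (by
    simpa only [Category.assoc] using (leOfHom f).2)
  map_id p := coequalizer.hom_ext (by
    have : coverIncl h F (le_refl p.S) = 𝟙 _ := by
      rw [coverIncl, ← CategoryTheory.Functor.map_id]
      congr 1
      rw [← cancel_mono p.S.1.ι, incl_ι, Category.id_comp]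
    rw [cokernel.π_desc, this]
    simp [Pair.obj])
  map_comp {p q r} f g := coequalizer.hom_ext (by
    have hc : coverIncl h F ((leOfHom f).1.trans (leOfHom g).1) =
        coverIncl h F (leOfHom f).1 ≫ coverIncl h F (leOfHom g).1 := by
      rw [coverIncl, coverIncl, coverIncl, ← Functor.map_comp]
      congr 1
      rw [← cancel_mono r.S.1.ι, Category.assoc, incl_ι, incl_ι, incl_ι]
    rw [cokernel.π_desc, hc, cokernel.π_desc_assoc, Category.assoc, Category.assoc, cokernel.π_desc])

/-- the maps to `F` -/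
def pairMap : pairSys h F ⟶ (Functor.const _).obj F where
  app p := cokernel.desc _ (coverMap h F p.S) (by rw [Category.assoc, kernel.condition, comp_zero])
  naturality p q f := coequalizer.hom_ext (by simp [pairSys])

variable [IsLocallyNoetherian X₀] [CompactSpace X₀] [QuasiSeparatedSpace X₀] [IsAffineHom h]
  [hF : F.IsQuasicoherent]

instance isQuasicoherent_kernel_coverMap (S : Stage h F) : (kernel (coverMap h F S)).IsQuasicoherent :=
  isQCoh_kernel (isFP_cover h F S).1 hF _

theorem exists_ge_pair (p : Pair h F) {S : Stage h F} (hS : p.S ≤ S) :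
    ∃ T : FGSub (kernel (coverMap h F S)), p ≤ ⟨S, T⟩ := by
  haveI := (Sub.isCoh_toModules p.T.2).1
  let φ : p.T.1.toModules ⟶ kernel (coverMap h F S) :=
    kernel.lift _ (p.T.1.ι ≫ kernel.ι (coverMap h F p.S) ≫ coverIncl h F hS)
      (by rw [Category.assoc, Category.assoc, coverIncl_coverMap, kernel.condition, comp_zero])
  obtain ⟨T, hT⟩ := exists_range_sub (Sub.isCoh_toModules p.T.2).2 φ
  obtain ⟨g, hg⟩ := exists_lift_of_range T.1.ι φ fun O a => (T.1.range_ι_app O _).2 (hT O a)
  refine ⟨T, hS, ?_⟩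
  have e : p.T.1.ι ≫ kernel.ι (coverMap h F p.S) ≫ coverIncl h F hS = g ≫ T.1.ι ≫ kernel.ι (coverMap h F S) := by
    rw [← Category.assoc g, hg, kernel.lift_ι]
  rw [e, Category.assoc, cokernel.condition, comp_zero]

theorem le_of_T_le {S : Stage h F} {T T' : FGSub (kernel (coverMap h F S))} (hT : T ≤ T') :
    (⟨S, T⟩ : Pair h F) ≤ ⟨S, T'⟩ := by
  refine ⟨le_rfl, ?_⟩
  have e : coverIncl h F (le_refl S) = 𝟙 _ := by
    rw [coverIncl, ← CategoryTheory.Functor.map_id]
    congr 1
    rw [← cancel_mono S.1.ι, incl_ι, Category.id_comp]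
  rw [e, Category.comp_id, ← incl_ι hT]
  simp only [Category.assoc]
  have h0 : T'.1.ι ≫ kernel.ι (coverMap h F S) ≫ cokernel.π (T'.1.ι ≫ kernel.ι (coverMap h F S)) = 0 := by
    rw [← Category.assoc, cokernel.condition]
  exact (congrArg (W7FTH.incl hT ≫ ·) h0).trans comp_zero

instance : Nonempty (Pair h F) :=
  let ⟨S⟩ := (inferInstance : Nonempty (Stage h F))
  let ⟨T⟩ := (inferInstance : Nonempty (FGSub (kernel (coverMap h F S))))
  ⟨⟨S, T⟩⟩

instance : IsDirectedOrder (Pair h F) := ⟨fun p q => by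
  obtain ⟨S, h1, h2⟩ := exists_ge_ge p.S q.S
  obtain ⟨T1, hT1⟩ := exists_ge_pair h F p h1
  obtain ⟨T2, hT2⟩ := exists_ge_pair h F q h2
  obtain ⟨T, h3, h4⟩ := exists_ge_ge T1 T2
  exact ⟨⟨S, T⟩, hT1.trans (le_of_T_le h F h3), hT2.trans (le_of_T_le h F h4)⟩⟩

theorem isFP_pairSys (p : Pair h F) : CohB1.IsFP ((pairSys h F).obj p) :=
  isFP_cokernel_of_isFT _ (Sub.isCoh_toModules p.T.2).1 (isFP_cover h F p.S).1 (Sub.isCoh_toModules p.T.2).2
    (isFP_cover h F p.S).2

/-- sections of a presented module killed in `F` die later locally -/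
theorem exists_ge_kill (p : Pair h F) {W : X.Opens} (d : Γ((pairSys h F).obj p, W))
    (hd : ((pairMap h F).app p).app W d = 0) {x : X} (hx : x ∈ W) :
    ∃ (W' : X.Opens) (hW : W' ≤ W), x ∈ W' ∧ ∃ (q : Pair h F) (hpq : p ≤ q),
      ((pairSys h F).map (homOfLE hpq)).app W' (res _ hW d) = 0 := by
  obtain ⟨V, hV, hxV, hVW⟩ := exists_isAffineOpen_mem_and_subset (x := x) (U := W) hx
  have hTq := (Sub.isCoh_toModules p.T.2).1
  obtain ⟨b, hb⟩ := app_surjective_of_epi hV (isFP_cover h F p.S).1
    (isQCoh_cokernel hTq (isFP_cover h F p.S).1 (p.T.1.ι ≫ kernel.ι (coverMap h F p.S)))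
    (cokernel.π _) (res ((pairSys h F).obj p) hVW d)
  have hb0 : (coverMap h F p.S).app V b = 0 := by
    have e := ConcreteCategory.congr_hom (congrArg (fun ψ => Scheme.Modules.Hom.app ψ V)
      (cokernel.π_desc (p.T.1.ι ≫ kernel.ι (coverMap h F p.S)) (coverMap h F p.S)
        (by rw [Category.assoc, kernel.condition, comp_zero]))) b
    refine e.symm.trans ?_
    refine (congrArg (((pairMap h F).app p).app V) hb).trans ?_
    rw [← app_res ((pairMap h F).app p), hd, map_zero]
  obtain ⟨k, hk⟩ := (mem_range_kernel_app (coverMap h F p.S) V b).2 hb0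
  obtain ⟨S', hS'⟩ := exists_sub_mem (F := kernel (coverMap h F p.S)) hV ({k} : Finset _)
  obtain ⟨T', h1, h2⟩ := exists_ge_ge p.T S'
  obtain ⟨a, ha⟩ := (T'.1.range_ι_app V k).2 (h2 V (hS' k (Finset.mem_singleton_self k)))
  refine ⟨V, hVW, hxV, ⟨p.S, T'⟩, le_of_T_le h F h1, ?_⟩
  rw [← hb]
  have e : coverIncl h F (le_refl p.S) = 𝟙 _ := by
    rw [coverIncl, ← CategoryTheory.Functor.map_id]
    congr 1
    rw [← cancel_mono p.S.1.ι, incl_ι, Category.id_comp]
  have hmap : cokernel.π (p.T.1.ι ≫ kernel.ι (coverMap h F p.S)) ≫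
      (pairSys h F).map (homOfLE (le_of_T_le h F h1)) = cokernel.π (T'.1.ι ≫ kernel.ι (coverMap h F p.S)) := by
    refine (cokernel.π_desc _ _ _).trans ?_
    rw [e, Category.id_comp]
  refine (ConcreteCategory.congr_hom (congrArg (fun ψ => Scheme.Modules.Hom.app ψ V) hmap) b).trans ?_
  rw [← hk, ← ha]
  exact ConcreteCategory.congr_hom (congrArg (fun ψ => Scheme.Modules.Hom.app ψ V)
    (cokernel.condition (T'.1.ι ≫ kernel.ι (coverMap h F p.S)))) a

set_option maxHeartbeats 1000000 in
/-- `F` is the colimit of the system -/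
theorem nonempty_isColimit_pairSys : Nonempty (IsColimit (Cocone.mk F (pairMap h F))) := by
  let c := colimit.cocone (pairSys h F)
  let θ : c.pt ⟶ F := colimit.desc (pairSys h F) (Cocone.mk F (pairMap h F))
  have hθ : ∀ p, c.ι.app p ≫ θ = (pairMap h F).app p := fun p => colimit.ι_desc _ p
  have hθ' : ∀ p W d, θ.app W ((c.ι.app p).app W d) = ((pairMap h F).app p).app W d := fun p W d =>
    ConcreteCategory.congr_hom (congrArg (fun ψ => Scheme.Modules.Hom.app ψ W) (hθ p)) d
  haveI hepi : Epi θ := epi_of_locally θ fun O t x hx => by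
    obtain ⟨W, hW, hxW, S, b, hb⟩ := exists_cover_locally h F t hx
    obtain ⟨T⟩ : Nonempty (FGSub (kernel (coverMap h F S))) := inferInstance
    refine ⟨W, hW, hxW, (c.ι.app ⟨S, T⟩).app W ((cokernel.π (T.1.ι ≫ kernel.ι (coverMap h F S))).app W b), ?_⟩
    rw [hθ', ← hb]
    exact ConcreteCategory.congr_hom (congrArg (fun ψ => Scheme.Modules.Hom.app ψ W)
      (cokernel.π_desc (T.1.ι ≫ kernel.ι (coverMap h F S)) (coverMap h F S)
        (by rw [Category.assoc, kernel.condition, comp_zero]))) b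
  haveI hmono : Mono θ := by
    refine (mono_iff_app_injective θ).2 fun O => (injective_iff_map_eq_zero _).2 fun s hs => ?_
    refine section_eq_of_locally fun x hx => ?_
    let G := SheafOfModules.toSheaf.{u} X.ringCatSheaf
    have hc := isColimitOfPreserves G (colimit.isColimit (pairSys h F))
    obtain ⟨p, b, hb⟩ := TopQC.exists_stalk_rep (X := X.toTopCat) (F := pairSys h F ⋙ G) hc x
      (gm (S := X.toTopCat) (G.obj c.pt) O x hx s)
    obtain ⟨W, hxW, d, rfl⟩ := exists_gm_eq (S := X.toTopCat) ((pairSys h F ⋙ G).obj p) b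
    rw [stMap_gm] at hb
    obtain ⟨W₁, hxW₁, i1, i2, he⟩ := TopCat.Presheaf.germ_eq (G.obj c.pt).obj x hxW hx
      ((G.map (c.ι.app p)).hom.app (op W) d) s hb
    let ip : (pairSys h F).obj p ⟶ c.pt := c.ι.app p
    let d' : Γ((pairSys h F).obj p, W) := d
    have he' : res c.pt i1.le (ip.app W d') = res c.pt i2.le s := he
    have he'' : ip.app W₁ (res _ i1.le d') = res c.pt i2.le s := (app_res ip i1.le d').symm.trans he'
    have hd : ((pairMap h F).app p).app W₁ (res _ i1.le d') = 0 := by
      refine (hθ' p W₁ _).symm.trans ((congrArg (θ.app W₁) he'').trans ?_)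
      exact (app_res θ i2.le s).symm.trans ((congrArg (res F i2.le) hs).trans (map_zero _))
    obtain ⟨W', hW', hxW', q, hpq, hq⟩ := exists_ge_kill h F p _ hd hxW₁
    refine ⟨W', hW'.trans i2.le, hxW', ?_⟩
    have h1 : res c.pt (hW'.trans i2.le) s = ip.app W' (res _ hW' (res _ i1.le d')) := by
      rw [← res_res c.pt hW' i2.le, ← he'']
      exact app_res ip hW' _
    have h2 : ip.app W' (res _ hW' (res _ i1.le d')) = 0 := by
      refine (ConcreteCategory.congr_hom (congrArg (fun ψ => Scheme.Modules.Hom.app ψ W')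
        (c.w (homOfLE hpq)).symm) _).trans ?_
      exact (congrArg ((c.ι.app q).app W') hq).trans (map_zero _)
    exact (h1.trans h2).trans (map_zero _).symm
  haveI : IsIso θ := isIso_of_mono_of_epi θ
  haveI : IsIso ((colimit.isColimit (pairSys h F)).desc (Cocone.mk F (pairMap h F))) := ‹IsIso θ›
  exact ⟨IsColimit.ofPointIso (colimit.isColimit (pairSys h F))⟩

end Groth.Agent.FPExt
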