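import Groth.Agent.W7FTH.Basic
import Groth.Agent.CokStage.Stage
import Groth.Agent.ModDesc.Iso
import Groth.Agent.ModDesc.Func
import Groth.Agent.DQPush.QcFlasque
import Groth.Agent.QC.Localisation
import Groth.Agent.RPushQC.SectionsExact
import Groth.Agent.AbsApprox.Main
import Groth.Agent.LimDesc.DescendAffine

/-!
# Finitely presented modules on a quasi-compact quasi-separated scheme

Finite type quasi-coherent modules are quotients of finitely presented ones, are their directed colimits
(with surjective transition maps), and every quasi-coherent module is a directed colimit of finitely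
presented ones; extension of (finite type / finitely presented) modules from quasi-compact opens.
-/

set_option autoImplicit false
set_option linter.style.haveILetI false
set_option backward.isDefEq.respectTransparency false

universe u

open CategoryTheory CategoryTheory.Limits AlgebraicGeometry TopologicalSpace Opposite

noncomputable section

namespace Groth.Agent.FPExt

open QC W7FTH

variable {X : Scheme.{u}}

/-- an epimorphism may be checked locally on sections -/
theorem epi_of_locally {M N : X.Modules} (φ : M ⟶ N)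
    (h : ∀ (O : X.Opens) (t : Γ(N, O)) (x : X), x ∈ O →
      ∃ (W : X.Opens) (hW : W ≤ O), x ∈ W ∧ ∃ s, φ.app W s = res N hW t) : Epi φ :=
  ⟨fun {P} a b e => Scheme.Modules.hom_ext _ _ fun O => by
    ext t
    refine section_eq_of_locally fun x hx => ?_
    obtain ⟨W, hW, hxW, s, hs⟩ := h O t x hx
    refine ⟨W, hW, hxW, ?_⟩
    rw [app_res, app_res, ← hs]
    exact ConcreteCategory.congr_hom (congrArg (fun ψ => Scheme.Modules.Hom.app ψ W) e) s⟩

/-- sections form locally finitely generated subsheaves -/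
theorem exists_sub_mem [CompactSpace X] [QuasiSeparatedSpace X] {F : X.Modules} [hF : F.IsQuasicoherent]
    {D : X.Opens} (hD : IsAffineOpen D) (T : Finset Γ(F, D)) :
    ∃ S : FGSub F, ∀ t ∈ T, t ∈ S.1.obj D := by
  have hgen : LocFinGen (genSub (T : Set Γ(F, D))) D := fun y hy =>
    ⟨D, hD, hy, le_rfl, T, fun u hu => mem_genSub_of_mem hu, fun _ _ => le_rfl⟩
  obtain ⟨S, hS, hSD⟩ := exists_extend_qcqs _ hgen hD.isCompact
  exact ⟨⟨S, hS⟩, fun t ht => by rw [hSD D le_rfl]; exact mem_genSub_of_mem ht⟩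

/-- sections lie locally in finitely generated subsheaves -/
theorem exists_mem_locally [CompactSpace X] [QuasiSeparatedSpace X] {F : X.Modules} [hF : F.IsQuasicoherent]
    {O : X.Opens} (s : Γ(F, O)) {x : X} (hx : x ∈ O) :
    ∃ (W : X.Opens) (hW : W ≤ O), x ∈ W ∧ ∃ S : FGSub F, res F hW s ∈ S.1.obj W := by
  obtain ⟨W, hW, hxW, hWO⟩ := exists_isAffineOpen_mem_and_subset (x := x) (U := O) hx
  obtain ⟨S, hS⟩ := exists_sub_mem hW ({res F (show W ≤ O from hWO) s} : Finset Γ(F, W))
  exact ⟨W, hWO, hxW, S, hS _ (Finset.mem_singleton_self _)⟩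

/-- a morphism killing all finitely generated subsheaves vanishes -/
theorem eq_zero_of_forall [CompactSpace X] [QuasiSeparatedSpace X] {F T : X.Modules} [hF : F.IsQuasicoherent]
    (c : F ⟶ T) (h : ∀ S : FGSub F, S.1.ι ≫ c = 0) : c = 0 := by
  refine Scheme.Modules.hom_ext _ _ fun O => ?_
  ext s
  refine section_eq_of_locally fun x hx => ?_
  obtain ⟨W, hW, hxW, S, hS⟩ := exists_mem_locally s hx
  refine ⟨W, hW, hxW, ?_⟩
  obtain ⟨a, ha⟩ := (S.1.range_ι_app W _).2 hS
  have h0 : c.app W (res F hW s) = 0 := by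
    rw [← ha]
    exact ConcreteCategory.congr_hom (congrArg (fun ψ => Scheme.Modules.Hom.app ψ W) (h S)) a
  rw [app_res]
  refine h0.trans ?_
  exact (map_zero (res T hW)).symm

/-- the cokernel of a map from a finite type module to a finitely presented one is finitely presented -/
theorem isFP_cokernel_of_isFT {F G : X.Modules} (u : F ⟶ G) (hF : Coh.IsQCoh F) (hG : Coh.IsQCoh G)
    (hF' : CohB1.IsFT F) (hG' : CohB1.IsFP G) : CohB1.IsFP (cokernel u) := by
  refine isFP_iff_exists_hasFinPres.2 fun x => ?_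
  obtain ⟨U, hU, hx, -⟩ := exists_isAffineOpen_mem_and_subset (X := X) (x := x) (U := ⊤) trivial
  haveI := finite_sections hU (hM := hF) hF'
  haveI := LocFree.finitePresentation_sections_of_isFP hG hG' hU
  obtain ⟨e⟩ := CokStage.exists_quot_equiv u hF hG hU
  haveI : Module.FinitePresentation Γ(X, U) (Γ(G, U) ⧸ LinearMap.range (CokStage.secMap u U)) :=
    Module.finitePresentation_of_surjective (LinearMap.range (CokStage.secMap u U)).mkQ (Submodule.mkQ_surjective _) (by
      rw [Submodule.ker_mkQ, LinearMap.range_eq_map]; exact (Module.Finite.fg_top (R := Γ(X, U)) (M := Γ(F, U))).map _)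
  haveI : Module.FinitePresentation Γ(X, U) Γ(cokernel u, U) := Module.FinitePresentation.of_equiv e
  exact ⟨U, hx, hasFinPres_of_finitePresentation hU (hM := isQCoh_cokernel hF hG u)⟩

@[implicit_reducible]
def partialOrderFGSub (F : X.Modules) : PartialOrder (FGSub F) :=
  { (inferInstance : Preorder (FGSub F)) with
    le_antisymm := fun S T h h' => Subtype.ext (Sub.ext fun O => le_antisymm (h O) (h' O)) }

section Quotient

variable {P F : X.Modules} (π : P ⟶ F)

/-- the quotients of `P` by finite type subsheaves of the kernel of `π` -/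
def quotSys : FGSub (kernel π) ⥤ X.Modules where
  obj S := cokernel (S.1.ι ≫ kernel.ι π)
  map {S T} f := cokernel.desc _ (cokernel.π (T.1.ι ≫ kernel.ι π)) (by
    rw [← incl_ι (leOfHom f), Category.assoc, Category.assoc, ← Category.assoc T.1.ι,
      cokernel.condition, comp_zero])
  map_id S := coequalizer.hom_ext (by simp)
  map_comp f g := coequalizer.hom_ext (by simp)

/-- and their maps to `F` -/
def quotMap : quotSys π ⟶ (Functor.const _).obj F where
  app S := cokernel.desc _ π (by rw [Category.assoc, kernel.condition, comp_zero])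
  naturality S T f := coequalizer.hom_ext (by simp [quotSys])

theorem epi_quotSys_map {S T : FGSub (kernel π)} (f : S ⟶ T) : Epi ((quotSys π).map f) :=
  epi_of_epi_fac (cokernel.π_desc _ (cokernel.π (T.1.ι ≫ kernel.ι π)) _)

variable [CompactSpace X] [QuasiSeparatedSpace X] [hK : (kernel π).IsQuasicoherent]

/-- `F` is their colimit -/
theorem nonempty_isColimit_quot [Epi π] : Nonempty (IsColimit (Cocone.mk F (quotMap π))) := by
  obtain ⟨S₀⟩ : Nonempty (FGSub (kernel π)) := inferInstance
  have key : ∀ (s : Cocone (quotSys π)) (S : FGSub (kernel π)),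
      cokernel.π (S.1.ι ≫ kernel.ι π) ≫ s.ι.app S = cokernel.π (S₀.1.ι ≫ kernel.ι π) ≫ s.ι.app S₀ := by
    intro s S
    obtain ⟨T, h1, h2⟩ := exists_ge_ge S S₀
    rw [← s.w (homOfLE h1), ← s.w (homOfLE h2)]
    simp [quotSys]
  have kill : ∀ s : Cocone (quotSys π), kernel.ι π ≫ cokernel.π (S₀.1.ι ≫ kernel.ι π) ≫ s.ι.app S₀ = 0 := by
    intro s
    refine eq_zero_of_forall _ fun S => ?_
    rw [← key s S, ← Category.assoc, ← Category.assoc, cokernel.condition, zero_comp]
  exact ⟨{
    desc := fun s => (Abelian.epiIsCokernelOfKernel _ (kernelIsKernel π)).desc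
      (CokernelCofork.ofπ _ (kill s))
    fac := fun s S => by
      refine coequalizer.hom_ext ?_
      change cokernel.π (S.1.ι ≫ kernel.ι π) ≫ (quotMap π).app S ≫ _ = cokernel.π (S.1.ι ≫ kernel.ι π) ≫ s.ι.app S
      rw [key s S, ← Category.assoc]
      simp only [quotMap, cokernel.π_desc]
      exact (Abelian.epiIsCokernelOfKernel _ (kernelIsKernel π)).fac (CokernelCofork.ofπ _ (kill s)) WalkingParallelPair.one
    uniq := fun s m hm => by
      rw [← cancel_epi π]
      refine Eq.trans ?_ ((Abelian.epiIsCokernelOfKernel _ (kernelIsKernel π)).fac (CokernelCofork.ofπ _ (kill s)) WalkingParallelPair.one).symm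
      change π ≫ m = cokernel.π (S₀.1.ι ≫ kernel.ι π) ≫ s.ι.app S₀
      rw [← hm S₀, ← Category.assoc]
      simp [quotMap] }⟩

theorem isFP_quotSys (hP : Coh.IsQCoh P) (hPF : CohB1.IsFP P) (S : FGSub (kernel π)) :
    CohB1.IsFP ((quotSys π).obj S) :=
  isFP_cokernel_of_isFT _ (Sub.isCoh_toModules S.2).1 hP (Sub.isCoh_toModules S.2).2 hPF

end Quotient

section Approx

/-- an affine morphism to a Noetherian scheme -/
theorem exists_affineHom_noetherian (X : Scheme.{u}) [CompactSpace X] [QuasiSeparatedSpace X] :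
    ∃ (X₀ : Scheme.{u}) (h : X ⟶ X₀), IsAffineHom h ∧ IsLocallyNoetherian X₀ ∧ CompactSpace X₀ ∧
      QuasiSeparatedSpace X₀ := by
  obtain ⟨I, _, _, _, D, π, hl, h1, h2, -⟩ := AbsApprox.hasApprox X
  obtain ⟨i⟩ := (inferInstance : Nonempty I)
  haveI : ∀ {i j : Iᵒᵖ} (f : i ⟶ j), IsAffineHom (D.map f) := fun f => h1 _ _ f
  exact ⟨D.obj (op i), π.app (op i), isAffineHom_π_app D (Cone.mk X π) hl (op i),
    AbsApprox.isLocallyNoetherian_of_lft (h2 _).2, (h2 _).1, AbsApprox.quasiSeparatedSpace_of_lft (h2 _).2⟩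

variable {X₀ : Scheme.{u}} (h : X ⟶ X₀) (F : X.Modules)

/-- the finite type subsheaves of the direct image -/
abbrev Stage : Type u := FGSub ((Scheme.Modules.pushforward h).obj F)

/-- their inverse images map to `F` -/
def coverMap (S : Stage h F) : (Scheme.Modules.pullback h).obj S.1.toModules ⟶ F :=
  ((Scheme.Modules.pullbackPushforwardAdjunction h).homEquiv _ _).symm S.1.ι

/-- the transition maps -/
def coverIncl {S T : Stage h F} (hST : S ≤ T) :
    (Scheme.Modules.pullback h).obj S.1.toModules ⟶ (Scheme.Modules.pullback h).obj T.1.toModules :=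
  (Scheme.Modules.pullback h).map (incl hST)

@[reassoc (attr := simp)]
theorem coverIncl_coverMap {S T : Stage h F} (hST : S ≤ T) :
    coverIncl h F hST ≫ coverMap h F T = coverMap h F S := by
  rw [coverIncl, coverMap, coverMap, ← Adjunction.homEquiv_naturality_left_symm, incl_ι]

theorem isFP_cover [IsLocallyNoetherian X₀] [((Scheme.Modules.pushforward h).obj F).IsQuasicoherent]
    (S : Stage h F) :
    Coh.IsQCoh ((Scheme.Modules.pullback h).obj S.1.toModules) ∧
      CohB1.IsFP ((Scheme.Modules.pullback h).obj S.1.toModules) := by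
  obtain ⟨hq, hft⟩ := Sub.isCoh_toModules S.2
  exact ⟨isQCoh_pullback h hq, ModDesc.isFP_pullback h hq (isFP_of_isQCoh_of_isFT (hM := hq) hft)⟩

variable [CompactSpace X₀] [QuasiSeparatedSpace X₀] [IsAffineHom h] [hF : F.IsQuasicoherent]

instance : ((Scheme.Modules.pushforward h).obj F).IsQuasicoherent := isQCoh_pushforward h

/-- sections over preimages of affine opens are hit -/
theorem exists_cover_preimage {D : X₀.Opens} (hD : IsAffineOpen D) (s : Γ(F, h ⁻¹ᵁ D)) :
    ∃ (S : Stage h F) (b : Γ((Scheme.Modules.pullback h).obj S.1.toModules, h ⁻¹ᵁ D)),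
      (coverMap h F S).app (h ⁻¹ᵁ D) b = s := by
  obtain ⟨S, hS⟩ := exists_sub_mem (F := (Scheme.Modules.pushforward h).obj F) hD
    ({(show Γ((Scheme.Modules.pushforward h).obj F, D) from s)} : Finset _)
  obtain ⟨a, ha⟩ := (S.1.range_ι_app D _).2 (hS _ (Finset.mem_singleton_self _))
  refine ⟨S, ((Scheme.Modules.pullbackPushforwardAdjunction h).unit.app S.1.toModules).app D a, ?_⟩
  have e : (Scheme.Modules.pullbackPushforwardAdjunction h).unit.app S.1.toModules ≫
      (Scheme.Modules.pushforward h).map (coverMap h F S) = S.1.ι := by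
    exact ((Scheme.Modules.pullbackPushforwardAdjunction h).homEquiv_unit _ _ (coverMap h F S)).symm.trans
      (Equiv.apply_symm_apply _ _)
  exact (ConcreteCategory.congr_hom (congrArg (fun ψ => Scheme.Modules.Hom.app ψ D) e) a).trans ha

/-- sections are hit locally -/
theorem exists_cover_locally {O : X.Opens} (t : Γ(F, O)) {x : X} (hx : x ∈ O) :
    ∃ (W : X.Opens) (hW : W ≤ O), x ∈ W ∧ ∃ (S : Stage h F) (b : _),
      (coverMap h F S).app W b = res F hW t := by
  obtain ⟨D, hD, hxD, -⟩ := exists_isAffineOpen_mem_and_subset (X := X₀) (x := h x) (U := ⊤) trivial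
  obtain ⟨f, hf, hxf⟩ := (hD.preimage h).exists_basicOpen_le (V := O) (⟨x, hx⟩ : O) hxD
  refine ⟨X.basicOpen f, hf, hxf, ?_⟩
  have hspan := mem_span_basicOpen (F := F) (hD.preimage h) f Submodule.span_univ (res F hf t)
  generalize res F hf t = y0 at hspan ⊢
  induction hspan using Submodule.span_induction with
  | mem y hy =>
    obtain ⟨s, -, rfl⟩ := hy
    obtain ⟨S, b, hb⟩ := exists_cover_preimage h F hD s
    exact ⟨S, res _ (X.basicOpen_le f) b, by rw [← app_res, hb]⟩
  | zero =>
    obtain ⟨S⟩ : Nonempty (Stage h F) := inferInstance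
    exact ⟨S, 0, map_zero _⟩
  | add a b _ _ ha hb =>
    obtain ⟨S, y, rfl⟩ := ha
    obtain ⟨T, z, rfl⟩ := hb
    obtain ⟨R, h1, h2⟩ := exists_ge_ge S T
    refine ⟨R, (coverIncl h F h1).app _ y + (coverIncl h F h2).app _ z, ?_⟩
    rw [map_add]
    exact congrArg₂ (· + ·)
      (ConcreteCategory.congr_hom (congrArg (fun ψ => Scheme.Modules.Hom.app ψ (X.basicOpen f))
        (coverIncl_coverMap h F h1)) y)
      (ConcreteCategory.congr_hom (congrArg (fun ψ => Scheme.Modules.Hom.app ψ (X.basicOpen f))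
        (coverIncl_coverMap h F h2)) z)
  | smul c a _ ha =>
    obtain ⟨S, y, rfl⟩ := ha
    exact ⟨S, c • y, Scheme.Modules.Hom.app_smul _ c y⟩

end Approx

/-- finite type quasi-coherent modules are quotients of finitely presented ones -/
theorem exists_fp_epi [CompactSpace X] [QuasiSeparatedSpace X] (F : X.Modules) [hF : F.IsQuasicoherent]
    (hFT : CohB1.IsFT F) : ∃ (P : X.Modules) (π : P ⟶ F), Coh.IsQCoh P ∧ CohB1.IsFP P ∧ Epi π := by
  classical
  obtain ⟨X₀, h, _, _, _, _⟩ := exists_affineHom_noetherian X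
  obtain ⟨t, ht⟩ := isCompact_univ.elim_finite_subcover (fun V : X₀.affineOpens => (V.1 : Set X₀))
    (fun V => V.1.2) (fun y _ => by
      obtain ⟨V, hV, hyV, -⟩ := exists_isAffineOpen_mem_and_subset (X := X₀) (x := y) (U := ⊤) trivial
      exact Set.mem_iUnion.mpr ⟨⟨V, hV⟩, hyV⟩)
  have hgen : ∀ V : X₀.affineOpens, ∃ T : Finset Γ(F, h ⁻¹ᵁ V.1),
      Submodule.span Γ(X, h ⁻¹ᵁ V.1) (T : Set Γ(F, h ⁻¹ᵁ V.1)) = ⊤ := fun V => by
    haveI := finite_sections (V.2.preimage h) hFT
    exact Module.Finite.fg_top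
  choose T hT using hgen
  have hcov : ∀ (V : X₀.affineOpens) (s : Γ(F, h ⁻¹ᵁ V.1)), ∃ (S : Stage h F) (b : _),
      (coverMap h F S).app (h ⁻¹ᵁ V.1) b = s := fun V s => exists_cover_preimage h F V.2 s
  choose Sof bof hbof using hcov
  obtain ⟨S, hS⟩ := Finset.exists_le (t.biUnion fun V => (T V).image (Sof V))
  refine ⟨_, coverMap h F S, (isFP_cover h F S).1, (isFP_cover h F S).2,
    ModDesc.epi_of_affine_cover (N := F) (coverMap h F S) (fun V : {V // V ∈ t} => h ⁻¹ᵁ V.1.1)
      (fun V => V.1.2.preimage h) (fun x => ?_) fun V s => ?_⟩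
  · obtain ⟨V, hV, hxV⟩ := Set.mem_iUnion₂.mp (ht (Set.mem_univ (h x)))
    exact ⟨⟨V, hV⟩, hxV⟩
  · have hs : s ∈ Submodule.span Γ(X, h ⁻¹ᵁ V.1.1) (T V.1 : Set _) := hT V.1 ▸ Submodule.mem_top
    induction hs using Submodule.span_induction with
    | mem y hy =>
      have hle : Sof V.1 y ≤ S := hS _ (Finset.mem_biUnion.2 ⟨V.1, V.2, Finset.mem_image.2 ⟨y, hy, rfl⟩⟩)
      refine ⟨(coverIncl h F hle).app _ (bof V.1 y), ?_⟩
      exact (ConcreteCategory.congr_hom (congrArg (fun ψ => Scheme.Modules.Hom.app ψ (h ⁻¹ᵁ V.1.1))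
        (coverIncl_coverMap h F hle)) (bof V.1 y)).trans (hbof V.1 y)
    | zero => exact ⟨0, map_zero _⟩
    | add a b _ _ ha hb =>
      obtain ⟨y, rfl⟩ := ha
      obtain ⟨z, rfl⟩ := hb
      exact ⟨y + z, map_add _ y z⟩
    | smul c a _ ha =>
      obtain ⟨y, rfl⟩ := ha
      exact ⟨c • y, Scheme.Modules.Hom.app_smul _ c y⟩

end Groth.Agent.FPExt
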